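import Groth.Agent.L22.SchemeDim
import Groth.Agent.L02.CAlg.Bertini.Chart
import Mathlib.AlgebraicGeometry.Morphisms.Smooth

/-!
Dimension of an integral scheme smooth of relative dimension `n` over a field.
-/

set_option autoImplicit false
set_option linter.style.haveILetI false

universe u

open CategoryTheory CategoryTheory.Limits AlgebraicGeometry

namespace Groth.L28.CurveDim

theorem topologicalKrullDim_eq {k : Type u} [Field k] {X : Scheme.{u}} [IsIntegral X]
    (f : X ⟶ Spec (CommRingCat.of k)) (n : ℕ) [SmoothOfRelativeDimension n f] :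
    topologicalKrullDim X = (n : WithBot ℕ∞) := by
  letI : X.Over (Spec (CommRingCat.of k)) := ⟨f⟩
  haveI : Smooth f := SmoothOfRelativeDimension.smooth (n := n) f
  haveI : LocallyOfFiniteType (X ↘ Spec (CommRingCat.of k)) := inferInstanceAs (LocallyOfFiniteType f)
  obtain ⟨m, hm, -, hopen⟩ := Groth.L22.SchemeDim.exists_dim_eq_trdeg (k := k) (X := X)
  obtain ⟨U, hU, V, hV, hx, e, hf⟩ :=
    SmoothOfRelativeDimension.exists_isStandardSmoothOfRelativeDimension (n := n) (f := f) (genericPoint X)
  obtain rfl : U = ⊤ := by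
    ext y
    have := e hx
    simp only [TopologicalSpace.Opens.coe_top, Set.mem_univ, iff_true]
    rwa [Subsingleton.elim y (f (genericPoint X))]
  haveI : Nonempty V := ⟨⟨_, hx⟩⟩
  letI : Algebra k Γ(X, V) := ((Scheme.ΓSpecIso (CommRingCat.of k)).inv ≫ f.appLE ⊤ V e).hom.toAlgebra
  haveI hs : Algebra.IsStandardSmoothOfRelativeDimension n k Γ(X, V) := by
    rw [← RingHom.isStandardSmoothOfRelativeDimension_algebraMap, RingHom.algebraMap_toAlgebra]
    exact (RingHom.isStandardSmoothOfRelativeDimension_respectsIso).2 _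
      (Scheme.ΓSpecIso (CommRingCat.of k)).symm.commRingCatIsoToRingEquiv hf
  haveI : Algebra.IsStandardSmooth k Γ(X, V) := Algebra.IsStandardSmoothOfRelativeDimension.isStandardSmooth n
  have hrank : Module.finrank Γ(X, V) (KaehlerDifferential k Γ(X, V)) = n := by
    rw [Module.finrank, Algebra.IsStandardSmoothOfRelativeDimension.rank_kaehlerDifferential n,
      Cardinal.toNat_natCast]
  let b := (Module.finBasis Γ(X, V) (KaehlerDifferential k Γ(X, V))).reindex (finCongr hrank)
  haveI : IsLocalization.Away (1 : Γ(X, V)) Γ(X, V) :=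
    IsLocalization.away_of_isUnit_of_bijective _ isUnit_one Function.bijective_id
  have hdim := L02.CAlg.BertiniV.card_eq_of_minimal (k := k) (A := Γ(X, V)) Γ(X, V) b 1 ⊥
    (by rw [IsDomain.minimalPrimes_eq_singleton_bot]; rfl) (by simp)
  rw [(RingEquiv.quotientBot Γ(X, V)).ringKrullDim] at hdim
  have h1 := hopen V ⟨_, hx⟩
  rw [show topologicalKrullDim V = topologicalKrullDim (V : Set X) from rfl,
    Groth.L22.SchemeDim.topologicalKrullDim_affineOpen hV, hdim] at h1
  rw [hm, h1]

end Groth.L28.CurveDim
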